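import Groth.Prelude.Def_Red
import Groth.Prelude.Def_AlgGrp
import Groth.Agent.H23.RatProductK
import Groth.Agent.H23.MaxAbelian
import Groth.Agent.GrpSchLib.FieldReduced
import Mathlib.RingTheory.MvPolynomial.Basic
import Mathlib.Algebra.MvPolynomial.Nilpotent
import Mathlib.RingTheory.Nullstellensatz
import Groth.Agent.GrpSchLib.SmoothReduced

/-! # Maps from affine spaces into semiabelian-by-discrete groups are constant -/

set_option autoImplicit false
set_option backward.isDefEq.respectTransparency false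
set_option backward.isDefEq.respectTransparency.types false
set_option linter.style.haveILetI false
set_option maxHeartbeats 1000000

universe u

open CategoryTheory Limits MonoidalCategory CartesianMonoidalCategory MonObj AlgebraicGeometry TopologicalSpace

namespace Groth.Agent.LargeGrpA1

/-- Morphisms out of a reduced scheme agreeing on all field points are equal. -/
theorem hom_ext_of_points {X G S : Scheme.{u}} [IsReduced X] (g : G ⟶ S) [IsSeparated g] (a b : X ⟶ G)
    (hab : a ≫ g = b ≫ g)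
    (h : ∀ x : X, ∃ (L : Type u) (_ : Field L) (p : Spec (CommRingCat.of L) ⟶ X),
      p (IsLocalRing.closedPoint L) = x ∧ p ≫ a = p ≫ b) : a = b := by
  let z := pullback.lift a b hab
  let E := pullback (pullback.diagonal g) z
  let i : E ⟶ X := pullback.snd _ _
  haveI : IsClosedImmersion i := MorphismProperty.pullback_snd _ _ inferInstance
  haveI : Surjective i := by
    refine ⟨fun x => ?_⟩
    obtain ⟨L, _, p, rfl, hp⟩ := h x
    let q : Spec (CommRingCat.of L) ⟶ E := pullback.lift (p ≫ a) p (by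
      apply pullback.hom_ext
      · simp [z]
      · simp [z, hp])
    exact ⟨q (IsLocalRing.closedPoint L), by
      rw [← Scheme.Hom.comp_apply, pullback.lift_snd]⟩
  haveI := isIso_of_isClosedImmersion_of_surjective i
  have h1 := congrArg (· ≫ pullback.fst g g) (pullback.condition (f := pullback.diagonal g) (g := z))
  have h2 := congrArg (· ≫ pullback.snd g g) (pullback.condition (f := pullback.diagonal g) (g := z))
  simp only [z, Category.assoc, pullback.diagonal_fst, pullback.diagonal_snd, Category.comp_id,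
    pullback.lift_fst, pullback.lift_snd] at h1 h2
  exact (cancel_epi i).1 (h1.symm.trans h2)

variable {k L : Type u} [Field k] [Field L] (θ : Spec (CommRingCat.of L) ⟶ Spec (CommRingCat.of k)) (n : ℕ)

/-- Affine space over `L`, as a scheme over `k`. -/
noncomputable abbrev W : Over (Spec (CommRingCat.of k)) :=
  Over.mk (Spec.map (CommRingCat.ofHom (algebraMap L (MvPolynomial (Fin n) L))) ≫ θ)

/-- `Spec L`, as a scheme over `k`. -/
noncomputable abbrev P : Over (Spec (CommRingCat.of k)) := Over.mk θ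

/-- The projection. -/
noncomputable abbrev pr : W θ n ⟶ P θ :=
  Over.homMk (Spec.map (CommRingCat.ofHom (algebraMap L (MvPolynomial (Fin n) L)))) rfl

/-- An `L`-point. -/
noncomputable abbrev sect (v : Fin n → L) : P θ ⟶ W θ n :=
  Over.homMk (Spec.map (CommRingCat.ofHom (MvPolynomial.aeval v : MvPolynomial (Fin n) L →ₐ[L] L).toRingHom)) (by
    show Spec.map _ ≫ Spec.map _ ≫ θ = θ
    rw [← Category.assoc, ← Spec.map_comp, ← CommRingCat.ofHom_comp, AlgHom.toRingHom_eq_coe, AlgHom.comp_algebraMap,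
      Algebra.algebraMap_self, CommRingCat.ofHom_id, Spec.map_id, Category.id_comp])

theorem sect_pr (v : Fin n → L) : sect θ n v ≫ pr θ n = 𝟙 _ := by
  apply Over.OverMorphism.ext
  show Spec.map _ ≫ Spec.map _ = 𝟙 _
  rw [← Spec.map_comp, ← CommRingCat.ofHom_comp, AlgHom.toRingHom_eq_coe, AlgHom.comp_algebraMap, Algebra.algebraMap_self,
    CommRingCat.ofHom_id, Spec.map_id]

/-- Maps to an abelian variety are constant. -/
theorem abelian_const (A : Over (Spec (CommRingCat.of k))) [GrpObj A] [IsProper A.hom] [Smooth A.hom]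
    [ConnectedSpace A.left] (g : W θ n ⟶ A) : ∃ a : P θ ⟶ A, g = pr θ n ≫ a := by
  haveI : GeometricallyReduced A.hom := GrpSchLib.geometricallyReduced_of_smooth A.hom
  haveI := H23.MaxAbelian.geometricallyIntegral_of_connected A
  let AL := (Over.pullback θ).obj A
  let : GrpObj AL := Functor.grpObjObj
  haveI : IsProper AL.hom := inferInstanceAs (IsProper (pullback.snd A.hom θ))
  haveI : GeometricallyIntegral AL.hom := inferInstanceAs (GeometricallyIntegral (pullback.snd A.hom θ))
  let e : H23.RatProductK.affine L (ULift.{u} (Fin n)) ⟶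
      Over.mk (Spec.map (CommRingCat.ofHom (algebraMap L (MvPolynomial (Fin n) L)))) :=
    Over.homMk ((AffineSpace.SpecIso (ULift.{u} (Fin n)) (CommRingCat.of L)).hom ≫
      Spec.map (CommRingCat.ofHom (MvPolynomial.rename ULift.up :
        MvPolynomial (Fin n) L →ₐ[L] MvPolynomial (ULift.{u} (Fin n)) L).toRingHom)) (by
      show (_ ≫ Spec.map _) ≫ Spec.map _ = _
      rw [Category.assoc, ← Spec.map_comp, ← CommRingCat.ofHom_comp, AlgHom.toRingHom_eq_coe, AlgHom.comp_algebraMap]
      refine (congrArg ((AffineSpace.SpecIso _ _).hom ≫ ·)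
        (AffineSpace.SpecIso_inv_over (CommRingCat.of L)).symm).trans ?_
      exact Iso.hom_inv_id_assoc _ _)
  haveI : IsIso e.left := by
    have : IsIso (CommRingCat.ofHom (MvPolynomial.rename ULift.up :
        MvPolynomial (Fin n) L →ₐ[L] MvPolynomial (ULift.{u} (Fin n)) L).toRingHom) :=
      (ConcreteCategory.isIso_iff_bijective _).2
        (MvPolynomial.renameEquiv L Equiv.ulift.{u}.symm).bijective
    exact inferInstanceAs (IsIso ((AffineSpace.SpecIso (ULift.{u} (Fin n)) (CommRingCat.of L)).hom ≫ Spec.map _))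
  let gL : Over.mk (Spec.map (CommRingCat.ofHom (algebraMap L (MvPolynomial (Fin n) L)))) ⟶ AL :=
    Over.homMk (pullback.lift g.left (Spec.map (CommRingCat.ofHom (algebraMap L (MvPolynomial (Fin n) L))))
      (Over.w g)) (pullback.lift_snd _ _ _)
  obtain ⟨a, ha⟩ := H23.RatProductK.affine_const (ULift.{u} (Fin n)) (e ≫ gL)
  refine ⟨Over.homMk (a.left ≫ pullback.fst A.hom θ) ?_, ?_⟩
  · show (a.left ≫ pullback.fst A.hom θ) ≫ A.hom = θ
    rw [Category.assoc, pullback.condition, ← Category.assoc]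
    erw [Over.w a]
    exact Category.id_comp _
  · have h1 := congrArg (fun t => CommaMorphism.left t ≫ pullback.fst A.hom θ) ha
    apply Over.OverMorphism.ext
    rw [← cancel_epi e.left]
    simp only [gL, Over.comp_left, Category.assoc, Over.homMk_left, pullback.lift_fst] at h1 ⊢
    rw [h1]
    have hu : (toUnit (H23.RatProductK.affine L (ULift.{u} (Fin n)))).left =
        e.left ≫ Spec.map (CommRingCat.ofHom (algebraMap L (MvPolynomial (Fin n) L))) :=
      (Category.comp_id _).symm.trans ((Over.w (toUnit _)).trans (Over.w e).symm)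
    rw [hu, Category.assoc]

theorem eq_of_int {R : Type*} [Ring R] (a b : ULift.{u} ℤ →+* R) : a = b :=
  (RingHom.cancel_right (f := (ULift.ringEquiv.{0, u} (R := ℤ)).symm.toRingHom)
    (ULift.ringEquiv (R := ℤ)).symm.surjective).1 (Subsingleton.elim _ _)

/-- Maps to a diagonalisable group are constant. -/
theorem diag_const (M : Type) [AddCommGroup M] {U : Scheme.{u}}
    (a : Spec (CommRingCat.of (MvPolynomial (Fin n) L)) ⟶ (Red.DS U M).left) :
    a ≫ pullback.fst _ _ = Spec.map (CommRingCat.ofHom (algebraMap L (MvPolynomial (Fin n) L))) ≫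
      Spec.map (CommRingCat.ofHom (MvPolynomial.aeval (0 : Fin n → L) : MvPolynomial (Fin n) L →ₐ[L] L).toRingHom) ≫ a ≫ pullback.fst _ _ := by
  obtain ⟨φ, hφ⟩ := Spec.map_surjective (a ≫ pullback.fst (Red.diag (ULift.{u} ℤ) M).hom
    ((specULiftZIsTerminal).from U))
  change a ≫ pullback.fst (Red.diag (ULift.{u} ℤ) M).hom ((specULiftZIsTerminal).from U) = _
  conv_rhs => change Spec.map _ ≫ Spec.map _ ≫
    (a ≫ pullback.fst (Red.diag (ULift.{u} ℤ) M).hom ((specULiftZIsTerminal).from U))
  rw [← hφ, ← Spec.map_comp, ← Spec.map_comp]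
  congr 1
  ext1
  refine MonoidAlgebra.ringHom_ext (fun r => ?_) fun m => ?_
  · exact RingHom.congr_fun (eq_of_int
      (φ.hom.comp MonoidAlgebra.singleOneRingHom)
      (((algebraMap L (MvPolynomial (Fin n) L)).comp (MvPolynomial.aeval (0 : Fin n → L) : MvPolynomial (Fin n) L →ₐ[L] L).toRingHom).comp
        (φ.hom.comp MonoidAlgebra.singleOneRingHom))) r
  · have hu : IsUnit (φ.hom (MonoidAlgebra.single m 1)) :=
      ((Group.isUnit m).map (MonoidAlgebra.of (ULift.{u} ℤ) (Multiplicative M))).map φ.hom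
    obtain ⟨c, -, hc⟩ := MvPolynomial.isUnit_iff_eq_C_of_isReduced.1 hu
    show φ.hom (MonoidAlgebra.single m 1) = algebraMap L (MvPolynomial (Fin n) L)
      (MvPolynomial.aeval (0 : Fin n → L) (φ.hom (MonoidAlgebra.single m 1)))
    rw [hc, MvPolynomial.aeval_C]
    rfl

/-- Maps into a group which becomes diagonalisable over the points are constant. -/
theorem torus_const (T : Over (Spec (CommRingCat.of k))) [GrpObj T] (M : Type) [AddCommGroup M]
    {U : Scheme.{u}} (f : U ⟶ Spec (CommRingCat.of k)) (hT : Red.IsSplitTorusWith M (Red.bc f T))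
    (s : Spec (CommRingCat.of L) ⟶ U) (hs : s ≫ f = θ) (g : W θ n ⟶ T) :
    g = pr θ n ≫ sect θ n 0 ≫ g := by
  obtain ⟨E⟩ := hT
  let j := ((Grp.forget _).mapIso E)
  let p := Spec.map (CommRingCat.ofHom (algebraMap L (MvPolynomial (Fin n) L)))
  let z := Spec.map (CommRingCat.ofHom (MvPolynomial.aeval (0 : Fin n → L) : MvPolynomial (Fin n) L →ₐ[L] L).toRingHom)
  let a : Over.mk (p ≫ s) ⟶ Red.bc f T := Over.homMk (pullback.lift g.left (p ≫ s) (by
    rw [Over.w g, Category.assoc, hs]; rfl)) (pullback.lift_snd _ _ _)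
  have hzp : z ≫ p = 𝟙 _ := congrArg CommaMorphism.left (sect_pr θ n 0)
  have hfst := diag_const n M (a ≫ j.hom).left
  have hc : (a ≫ j.hom).left = p ≫ z ≫ (a ≫ j.hom).left := by
    refine pullback.hom_ext ?_ ?_
    · rw [Category.assoc, Category.assoc]; exact hfst
    · rw [Category.assoc, Category.assoc]
      erw [Over.w (a ≫ j.hom)]
      exact ((congrArg (p ≫ ·) ((Category.assoc _ _ _).symm.trans
        ((congrArg (· ≫ s) hzp).trans (Category.id_comp _)))).trans rfl).symm
  have hd : a.left = p ≫ z ≫ a.left := by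
    have := congrArg (· ≫ j.inv.left) hc
    simp only [Category.assoc, ← Over.comp_left, Iso.hom_inv_id, Category.comp_id] at this
    exact this
  apply Over.OverMorphism.ext
  have := congrArg (· ≫ pullback.fst T.hom f) hd
  simp only [a, Over.homMk_left, Category.assoc, pullback.lift_fst] at this
  exact this

/-- A morphism of affine space at the unit at the origin lands in any open subgroup. -/
theorem range_subset_openSubgroup [IsAlgClosed L] {G G0 : Over (Spec (CommRingCat.of k))} [GrpObj G]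
    [GrpObj G0] (e : G0 ⟶ G) [IsMonHom e] [IsOpenImmersion e.left]
    (g : W θ n ⟶ G) (h0 : sect θ n 0 ≫ g = 1) : Set.range g.left ⊆ Set.range e.left := by
  let V : Set (W θ n).left := g.left ⁻¹' Set.range e.left
  have hV : IsOpen V := e.left.isOpenEmbedding.isOpen_range.preimage g.left.continuous
  haveI : IsIntegral (W θ n).left := inferInstanceAs (IsIntegral (Spec (CommRingCat.of (MvPolynomial (Fin n) L))))
  have hone : Set.range (1 : P θ ⟶ G).left ⊆ Set.range e.left := by
    rintro _ ⟨y, rfl⟩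
    rw [show (1 : P θ ⟶ G) = (1 : P θ ⟶ G0) ≫ e from (MonObj.one_comp e).symm, Over.comp_left,
      Scheme.Hom.comp_apply]
    exact ⟨_, rfl⟩
  have hmax : ∀ m : (W θ n).left, IsClosed {m} → ∃ v : Fin n → L, ∀ y, (sect θ n v).left y = m := by
    intro m hm
    have hmm : (m : PrimeSpectrum (MvPolynomial (Fin n) L)).asIdeal.IsMaximal :=
      (PrimeSpectrum.isClosed_singleton_iff_isMaximal _).1 hm
    obtain ⟨v, hv⟩ := (MvPolynomial.isMaximal_iff_eq_vanishingIdeal_singleton).1 hmm
    refine ⟨v, fun y => PrimeSpectrum.ext ?_⟩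
    rw [hv]
    ext q
    have : (y : PrimeSpectrum L).asIdeal = ⊥ := Ideal.eq_bot_of_prime _
    show MvPolynomial.aeval v q ∈ (y : PrimeSpectrum L).asIdeal ↔ _
    simp [this, MvPolynomial.mem_vanishingIdeal_singleton_iff]
  have hlift : ∀ (w : P θ ⟶ G), Set.range w.left ⊆ Set.range e.left → ∃ w₀ : P θ ⟶ G0, w = w₀ ≫ e := fun w hw =>
    ⟨Over.homMk (IsOpenImmersion.lift e.left w.left hw) (by
      rw [← Over.w e, IsOpenImmersion.lift_fac_assoc, Over.w w]),
      Over.OverMorphism.ext (IsOpenImmersion.lift_fac _ _ _).symm⟩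
  haveI : JacobsonSpace (W θ n).left :=
    inferInstanceAs (JacobsonSpace (PrimeSpectrum (MvPolynomial (Fin n) L)))
  have hclosed : ∀ m : (W θ n).left, IsClosed {m} → m ∈ V := by
    intro m hm
    obtain ⟨v, hv⟩ := hmax m hm
    let h : W θ n ⟶ G := g * (pr θ n ≫ sect θ n v ≫ g)⁻¹
    have hval : ∀ u : Fin n → L, sect θ n u ≫ h = (sect θ n u ≫ g) * (sect θ n v ≫ g)⁻¹ := fun u => by
      rw [MonObj.comp_mul, GrpObj.comp_inv, reassoc_of% sect_pr θ n u]
    let V' : Set (W θ n).left := h.left ⁻¹' Set.range e.left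
    have hV' : IsOpen V' := e.left.isOpenEmbedding.isOpen_range.preimage h.left.continuous
    let y₀ : (P θ).left := (IsLocalRing.closedPoint L)
    have hVne : ((sect θ n 0).left y₀) ∈ V := by
      show g.left ((sect θ n 0).left y₀) ∈ Set.range e.left
      rw [← Scheme.Hom.comp_apply, ← Over.comp_left, h0]
      exact hone ⟨y₀, rfl⟩
    have hV'ne : ((sect θ n v).left y₀) ∈ V' := by
      show h.left ((sect θ n v).left y₀) ∈ Set.range e.left
      rw [← Scheme.Hom.comp_apply, ← Over.comp_left, hval, mul_inv_cancel]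
      exact hone ⟨y₀, rfl⟩
    obtain ⟨x, hx⟩ := nonempty_preirreducible_inter hV hV' ⟨_, hVne⟩ ⟨_, hV'ne⟩
    obtain ⟨w, ⟨hwV, hwV'⟩, hw⟩ := nonempty_inter_closedPoints (Z := V ∩ V') ⟨x, hx⟩ (hV.inter hV').isLocallyClosed
    obtain ⟨u, hu⟩ := hmax w hw
    obtain ⟨a, ha⟩ := hlift (sect θ n u ≫ g) (by
      rintro _ ⟨y, rfl⟩
      rw [Over.comp_left, Scheme.Hom.comp_apply, hu]
      exact hwV)
    obtain ⟨b, hb⟩ := hlift (sect θ n u ≫ h) (by
      rintro _ ⟨y, rfl⟩
      rw [Over.comp_left, Scheme.Hom.comp_apply, hu]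
      exact hwV')
    have hvg : sect θ n v ≫ g = (b⁻¹ * a) ≫ e := by
      rw [MonObj.mul_comp, GrpObj.inv_comp, ← hb, ← ha, hval, mul_inv_rev, inv_inv, inv_mul_cancel_right]
    show g.left m ∈ Set.range e.left
    rw [← hv y₀, ← Scheme.Hom.comp_apply, ← Over.comp_left, hvg, Over.comp_left, Scheme.Hom.comp_apply]
    exact ⟨_, rfl⟩
  intro _ ⟨m, hm⟩
  by_contra hmV
  have hne : (Vᶜ : Set (W θ n).left).Nonempty := ⟨m, fun h => hmV (hm ▸ h)⟩
  obtain ⟨c, hc, hcc⟩ := nonempty_inter_closedPoints hne hV.isClosed_compl.isLocallyClosed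
  exact hc (hclosed c hcc)

/-- Maps from affine space into a large group are constant. -/
theorem large_const [IsAlgClosed L] {G G0 T A : Over (Spec (CommRingCat.of k))} [GrpObj G] [GrpObj G0]
    (e : G0 ⟶ G) [IsMonHom e] [IsOpenImmersion e.left] [GrpObj T] (i : T ⟶ G0) [IsMonHom i]
    [GrpObj A] [IsProper A.hom] [Smooth A.hom] [ConnectedSpace A.left] (q : G0 ⟶ A) [IsMonHom q]
    (hker : AlgGrp.IsKernel i q) (M : Type) [AddCommGroup M]
    {U : Scheme.{u}} (f : U ⟶ Spec (CommRingCat.of k)) (hT : Red.IsSplitTorusWith M (Red.bc f T))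
    (s : Spec (CommRingCat.of L) ⟶ U) (hs : s ≫ f = θ) (g : W θ n ⟶ G) :
    g = pr θ n ≫ sect θ n 0 ≫ g := by
  let h : W θ n ⟶ G := g * (pr θ n ≫ sect θ n 0 ≫ g)⁻¹
  have h0 : sect θ n 0 ≫ h = 1 := by
    rw [MonObj.comp_mul, GrpObj.comp_inv, reassoc_of% sect_pr θ n 0, mul_inv_cancel]
  suffices h = 1 from mul_inv_eq_one.1 this
  have hr := range_subset_openSubgroup θ n e h h0
  let u : W θ n ⟶ G0 := Over.homMk (IsOpenImmersion.lift e.left h.left hr)
    (by rw [← Over.w e, IsOpenImmersion.lift_fac_assoc, Over.w h])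
  have hu : u ≫ e = h := Over.OverMorphism.ext (IsOpenImmersion.lift_fac _ _ _)
  haveI : Mono e := (Over.forget _).mono_of_mono_map (inferInstanceAs (Mono e.left))
  have hu0 : sect θ n 0 ≫ u = 1 := by
    rw [← cancel_mono e, Category.assoc, hu, h0, MonObj.one_comp]
  obtain ⟨a, ha⟩ := abelian_const θ n A (u ≫ q)
  have ha1 : a = 1 := by
    have := congrArg (sect θ n 0 ≫ ·) ha
    simp only [reassoc_of% hu0, reassoc_of% sect_pr θ n 0, MonObj.one_comp] at this
    exact this.symm
  rw [ha1, MonObj.comp_one, Hom.one_def] at ha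
  let v : W θ n ⟶ T := hker.lift u (toUnit _) ha
  have hv : v ≫ i = u := hker.lift_fst _ _ _
  have hv0 : sect θ n 0 ≫ v = 1 := by
    refine hker.hom_ext ?_ (toUnit_unique _ _)
    rw [Category.assoc, hv, hu0, MonObj.one_comp]
  have hv1 : v = 1 := by
    rw [torus_const θ n T M f hT s hs v, hv0, MonObj.comp_one]
  rw [← hu, ← hv, hv1, MonObj.one_comp, MonObj.one_comp]

end Groth.Agent.LargeGrpA1
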